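import Mathlib
import Cfsg.Prelude.Def_GeometricClasses
import Cfsg.Agent.Lib.Helper27.ASC.Defs
import Cfsg.Agent.Lib.Helper19.ASG.Defs

/-!
# Project ASG, block D1 (sub-leaders helper26 + helper27) : `N` minimal non-scalar with `⁅N, N⁆` scalar

Shared vocabulary of the block: `D1NormBy`, `d1scal`, `D1Core`, and a few trivial facts about `d1scal`.
-/

set_option autoImplicit false

namespace Cfsg.Agent.Lib.Helper19.ASG

open Cfsg Cfsg.Geo Cfsg.Agent.Lib.Helper27.ASC
open scoped MatrixGroups Matrix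

variable {n : ℕ} {F : Type*} [Field F]

/-- `R` is normalised by `H` (no containment assumed) -/
def D1NormBy (R H : Subgroup (GL (Fin n) F)) : Prop :=
  ∀ h ∈ H, ∀ y ∈ R, h * y * h⁻¹ ∈ R

/-- the scalar matrix `c • 1` as an element of `GL_n(F)` -/
def d1scal (c : Fˣ) : GL (Fin n) F :=
  Units.map (Matrix.scalar (Fin n) : F →+* Matrix (Fin n) (Fin n) F).toMonoidHom c

theorem d1scal_mem (c : Fˣ) : (d1scal c : GL (Fin n) F) ∈ scalars (Fin n) F := ⟨c, rfl⟩

theorem d1scal_coe (c : Fˣ) :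
    ((d1scal c : GL (Fin n) F) : Matrix (Fin n) (Fin n) F) = (c : F) • (1 : Matrix (Fin n) (Fin n) F) := by
  simp [d1scal, Matrix.smul_one_eq_diagonal]

theorem mem_scalars_iff_d1scal (g : GL (Fin n) F) : g ∈ scalars (Fin n) F ↔ ∃ c : Fˣ, g = d1scal c := by
  constructor
  · rintro ⟨c, rfl⟩
    exact ⟨c, rfl⟩
  · rintro ⟨c, rfl⟩
    exact d1scal_mem c

theorem d1scal_one : (d1scal (1 : Fˣ) : GL (Fin n) F) = 1 := by
  simp [d1scal]

theorem d1scal_mul (c d : Fˣ) : (d1scal (c * d) : GL (Fin n) F) = d1scal c * d1scal d := by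
  simp [d1scal]

theorem d1scal_inv (c : Fˣ) : (d1scal c⁻¹ : GL (Fin n) F) = (d1scal c)⁻¹ := by
  simp [d1scal]

theorem d1scal_pow (c : Fˣ) (k : ℕ) : (d1scal (c ^ k) : GL (Fin n) F) = d1scal c ^ k := by
  simp [d1scal]

/-- scalars are central -/
theorem d1scal_comm (c : Fˣ) (g : GL (Fin n) F) : d1scal c * g = g * d1scal c := by
  apply Units.ext
  rw [Units.val_mul, Units.val_mul, d1scal_coe]
  simp

theorem d1scal_mul_pow (c : Fˣ) (g : GL (Fin n) F) (k : ℕ) : (d1scal c * g) ^ k = d1scal (c ^ k) * g ^ k := by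
  rw [(show Commute (d1scal c) g from d1scal_comm c g).mul_pow, d1scal_pow]

theorem d1scal_injective (hn : 0 < n) : Function.Injective (d1scal : Fˣ → GL (Fin n) F) := by
  intro c d h
  have h1 := congrArg (fun g : GL (Fin n) F => (g : Matrix (Fin n) (Fin n) F) ⟨0, hn⟩ ⟨0, hn⟩) h
  simp only [d1scal_coe] at h1
  apply Units.ext
  simpa using h1

/-- The output of the first half of the block: an absolutely irreducible group `R` of class at most 2 modulo scalars,
of exponent dividing `k = r * gcd(2, r)` (`r` for odd `r`, `4` for `r = 2`), containing all the scalars of order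
dividing `k`. -/
structure D1Core (r k : ℕ) (R : Subgroup (GL (Fin n) F)) : Prop where
  prime : r.Prime
  k_eq : k = r * Nat.gcd 2 r
  absIrr : AbsIrr R
  comm : ⁅R, R⁆ ≤ scalars (Fin n) F
  pow : ∀ y ∈ R, y ^ k = 1
  roots : ∀ c : Fˣ, c ^ k = 1 → d1scal c ∈ R

end Cfsg.Agent.Lib.Helper19.ASG
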